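import Groth.Agent.Lib.RedPts.BC
import Groth.Agent.Lib.GrpQ.InfSub
import Mathlib.AlgebraicGeometry.Morphisms.FinitePresentation
import Mathlib.RingTheory.Localization.BaseChange

/-!
# Closed subgroups of the generic fibre of an affine group spread out
-/

set_option autoImplicit false
set_option linter.style.haveILetI false

noncomputable section

universe u

open CategoryTheory CategoryTheory.Limits MonoidalCategory CartesianMonoidalCategory AlgebraicGeometry
open scoped MonObj GrpObj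

namespace Groth.Agent.Lib.SubSpread76

open RedPts

/-- A morphism killing the kernel of a closed immersion of affine schemes factors through it. -/
theorem exists_fac {C G T : Scheme.{u}} [IsAffine G] (c : C ⟶ G) [IsClosedImmersion c] (g : T ⟶ G)
    (h : ∀ b, c.appTop b = 0 → g.appTop b = 0) : ∃ t : T ⟶ C, t ≫ c = g := by
  obtain ⟨_, hs⟩ := IsClosedImmersion.isAffine_surjective_of_isAffine c
  let φ : Γ(C, ⊤) →+* Γ(T, ⊤) := c.appTop.hom.liftOfSurjective hs ⟨g.appTop.hom, fun b hb => h b hb⟩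
  have hφ : c.appTop ≫ CommRingCat.ofHom φ = g.appTop := by
    ext b
    exact RingHom.liftOfRightInverse_comp_apply _ _ (Function.rightInverse_surjInv hs) _ b
  refine ⟨T.toSpecΓ ≫ Spec.map (CommRingCat.ofHom φ) ≫ C.isoSpec.inv, ?_⟩
  rw [Category.assoc, Category.assoc, ← Scheme.isoSpec_inv_naturality, ← Spec.map_comp_assoc, hφ,
    ← Category.assoc, ← Scheme.toSpecΓ_naturality, Category.assoc, Scheme.toSpecΓ_isoSpec_inv, Category.comp_id]

variable {A K : Type u} [CommRing A] [IsDomain A] [Field K] [Algebra A K] [IsFractionRing A K]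

variable (A K) in
/-- The generic point of `Spec A`. -/
abbrev gen : Spec (CommRingCat.of K) ⟶ Spec (CommRingCat.of A) :=
  Spec.map (CommRingCat.ofHom (algebraMap A K))

/-- The constant `a` on a scheme over `Spec A`. -/
def cst (T : Over (Spec (CommRingCat.of A))) (a : A) : Γ(T.left, ⊤) :=
  T.hom.appTop ((Scheme.ΓSpecIso (CommRingCat.of A)).inv a)

theorem cst_map {T T' : Over (Spec (CommRingCat.of A))} (g : T' ⟶ T) (a : A) :
    g.left.appTop (cst T a) = cst T' a := by
  rw [cst, cst, ← Over.w g, Scheme.Hom.comp_appTop]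
  rfl

theorem cst_mul (T : Over (Spec (CommRingCat.of A))) (a b : A) : cst T (a * b) = cst T a * cst T b := by
  rw [cst, cst, cst, map_mul, map_mul]

/-- Global sections of the generic fibre of an affine scheme over `Spec A` are fractions. -/
theorem exists_frac {T : Over (Spec (CommRingCat.of A))} [IsAffine T.left] {P : Scheme.{u}} (p : P ⟶ T.left)
    (q : P ⟶ Spec (CommRingCat.of K)) (sq : IsPullback p q T.hom (gen A K)) :
    (∀ x : Γ(P, ⊤), ∃ (a : A) (b : Γ(T.left, ⊤)), a ≠ 0 ∧ IsUnit (p.appTop (cst T a)) ∧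
        p.appTop (cst T a) * x = p.appTop b) ∧
      ∀ b : Γ(T.left, ⊤), p.appTop b = 0 → ∃ a : A, a ≠ 0 ∧ cst T a * b = 0 := by
  let θ : CommRingCat.of A ⟶ Γ(T.left, ⊤) := (Scheme.ΓSpecIso (CommRingCat.of A)).inv ≫ T.hom.appTop
  let κ : CommRingCat.of K ⟶ Γ(P, ⊤) := (Scheme.ΓSpecIso (CommRingCat.of K)).inv ≫ q.appTop
  have h₁ : IsPushout θ (CommRingCat.ofHom (algebraMap A K)) p.appTop κ :=
    IsPushout.of_iso (isPushout_appTop_of_isPullback sq) (Scheme.ΓSpecIso _) (Iso.refl _) (Scheme.ΓSpecIso _)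
      (Iso.refl _) (by simp [θ]) (Scheme.ΓSpecIso_naturality _) (by simp) (by simp [κ])
  letI : Algebra A Γ(T.left, ⊤) := θ.hom.toAlgebra
  letI : Algebra Γ(T.left, ⊤) Γ(P, ⊤) := p.appTop.hom.toAlgebra
  letI : Algebra K Γ(P, ⊤) := κ.hom.toAlgebra
  letI : Algebra A Γ(P, ⊤) := (p.appTop.hom.comp θ.hom).toAlgebra
  haveI : IsScalarTower A Γ(T.left, ⊤) Γ(P, ⊤) := IsScalarTower.of_algebraMap_eq fun _ => rfl
  haveI : IsScalarTower A K Γ(P, ⊤) := IsScalarTower.of_algebraMap_eq fun a => congr($(h₁.w) a)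
  haveI : IsLocalization (Algebra.algebraMapSubmonoid Γ(T.left, ⊤) (nonZeroDivisors A)) Γ(P, ⊤) :=
    (Algebra.isLocalization_iff_isPushout (nonZeroDivisors A) K).2
      ((CommRingCat.isPushout_iff_isPushout).1 h₁)
  constructor
  · intro x
    obtain ⟨⟨b, _, a, ha, rfl⟩, h⟩ :=
      IsLocalization.surj (Algebra.algebraMapSubmonoid Γ(T.left, ⊤) (nonZeroDivisors A)) x
    exact ⟨a, b, nonZeroDivisors.ne_zero ha,
      IsLocalization.map_units Γ(P, ⊤) (⟨_, a, ha, rfl⟩ : Algebra.algebraMapSubmonoid Γ(T.left, ⊤) (nonZeroDivisors A)),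
      (mul_comm _ _).trans h⟩
  · intro b hb
    obtain ⟨⟨_, a, ha, rfl⟩, h⟩ :=
      (IsLocalization.map_eq_zero_iff (Algebra.algebraMapSubmonoid Γ(T.left, ⊤) (nonZeroDivisors A)) Γ(P, ⊤) b).1 hb
    exact ⟨a, nonZeroDivisors.ne_zero ha, h⟩

theorem isUnit_cst {T : Over (Spec (CommRingCat.of A))} {a : A}
    (hT : Set.range T.hom.base ⊆ (PrimeSpectrum.basicOpen a : Set (PrimeSpectrum A))) : IsUnit (cst T a) := by
  have h : T.left.basicOpen (cst T a) = ⊤ := by
    rw [cst, ← Scheme.preimage_basicOpen_top, basicOpen_eq_of_affine, eq_top_iff]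
    exact fun t _ => hT ⟨t, rfl⟩
  refine RingedSpace.isUnit_of_isUnit_germ T.left.toLocallyRingedSpace.toRingedSpace ⊤ (cst T a) fun x hx => ?_
  exact (T.left.mem_basicOpen _ x hx).1 (by rw [h]; trivial)

variable (G₀ : Over (Spec (CommRingCat.of A))) [GrpObj G₀] [IsAffine G₀.left]
  [LocallyOfFinitePresentation G₀.hom]
  {H : Over (Spec (CommRingCat.of K))} [GrpObj H] (i : H ⟶ Red.bc (gen A K) G₀) [IsMonHom i] [IsClosedImmersion i.left]

/-- A closed subgroup of the generic fibre spreads out over a basic open. -/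
theorem exists_spread :
    ∃ (a : A) (Z : Over (Spec (CommRingCat.of A))) (c : Z ⟶ G₀) (φ : H.left ⟶ Z.left), a ≠ 0 ∧
      IsClosedImmersion c.left ∧ IsPullback φ H.hom Z.hom (gen A K) ∧ φ ≫ c.left = i.left ≫ pullback.fst G₀.hom (gen A K) ∧
      ∀ (T : Over (Spec (CommRingCat.of A))),
        Set.range T.hom.base ⊆ (PrimeSpectrum.basicOpen a : Set (PrimeSpectrum A)) →
          (∃ z : T ⟶ Z, z ≫ c = 1) ∧ ∀ x y : T ⟶ Z,
            (∃ z : T ⟶ Z, z ≫ c = (x ≫ c) * (y ≫ c)) ∧ ∃ z : T ⟶ Z, z ≫ c = (x ≫ c)⁻¹ := by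
  classical
  haveI : IsAffineHom G₀.hom := isAffineHom_of_isAffine _
  haveI : IsAffineHom (pullback.snd G₀.hom (gen A K)) := MorphismProperty.pullback_snd _ _ inferInstance
  haveI : IsAffine (Red.bc (gen A K) G₀).left := isAffine_of_isAffineHom (pullback.snd G₀.hom (gen A K))
  haveI : LocallyOfFiniteType (Red.bc (gen A K) G₀).hom :=
    MorphismProperty.pullback_snd (P := @LocallyOfFiniteType) _ _ inferInstance
  haveI : IsLocallyNoetherian (Red.bc (gen A K) G₀).left := LocallyOfFiniteType.isLocallyNoetherian (Red.bc (gen A K) G₀).hom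
  haveI : IsNoetherianRing Γ((Red.bc (gen A K) G₀).left, ⊤) :=
    IsLocallyNoetherian.component_noetherian ⟨_, isAffineOpen_top _⟩
  obtain ⟨gens, hgens⟩ := IsNoetherian.noetherian (RingHom.ker i.left.appTop.hom)
  have hfr := (exists_frac (T := G₀) (pullback.fst G₀.hom (gen A K)) (pullback.snd G₀.hom (gen A K))
    (IsPullback.of_hasPullback _ _)).1
  choose den num hden hunit hnum using hfr
  let I : Ideal Γ(G₀.left, ⊤) := Ideal.span ↑(gens.image num)
  let c₀ : Spec (CommRingCat.of (Γ(G₀.left, ⊤) ⧸ I)) ⟶ G₀.left :=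
    Spec.map (CommRingCat.ofHom (Ideal.Quotient.mk I)) ≫ G₀.left.isoSpec.inv
  haveI : IsClosedImmersion c₀ := by
    haveI : IsClosedImmersion (Spec.map (CommRingCat.ofHom (Ideal.Quotient.mk I))) :=
      IsClosedImmersion.spec_of_surjective _ Ideal.Quotient.mk_surjective
    infer_instance
  let Z : Over (Spec (CommRingCat.of A)) := Over.mk (c₀ ≫ G₀.hom)
  let c : Z ⟶ G₀ := Over.homMk c₀
  haveI : IsClosedImmersion c.left := ‹IsClosedImmersion c₀›
  haveI : Mono c := (Over.forget _).mono_of_mono_map (f := c) (inferInstanceAs (Mono c.left))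
  haveI : IsAffineHom Z.hom := isAffineHom_of_isAffine (c₀ ≫ G₀.hom)
  have hc : ∀ b : Γ(G₀.left, ⊤), c₀.appTop b = 0 ↔ b ∈ I := by
    intro b
    have : (Scheme.ΓSpecIso _).hom.hom (c₀.appTop b) = Ideal.Quotient.mk I b := by
      have e : c₀.appTop ≫ (Scheme.ΓSpecIso _).hom = CommRingCat.ofHom (Ideal.Quotient.mk I) := by
        have h1 : G₀.left.isoSpec.inv.appTop = (Scheme.ΓSpecIso Γ(G₀.left, ⊤)).inv := by
          rw [← cancel_mono (Scheme.ΓSpecIso Γ(G₀.left, ⊤)).hom, Iso.inv_hom_id, ← Scheme.toSpecΓ_appTop,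
            ← Scheme.isoSpec_hom, ← Scheme.Hom.comp_appTop, Iso.hom_inv_id, Scheme.Hom.id_appTop]
        simp only [c₀, Scheme.Hom.comp_appTop, h1, Category.assoc, Scheme.ΓSpecIso_naturality]
        exact Iso.inv_hom_id_assoc _ _
      exact congr($e b)
    rw [← Ideal.Quotient.eq_zero_iff_mem, ← this,
      map_eq_zero_iff _ (ConcreteCategory.bijective_of_isIso (Scheme.ΓSpecIso _).hom).1]
  have hfac : ∀ {T : Scheme.{u}} (g : T ⟶ G₀.left), (∀ x ∈ gens, g.appTop (num x) = 0) → ∃ t, t ≫ c₀ = g := by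
    intro T g hg
    refine exists_fac c₀ g fun b hb => ?_
    have : I ≤ RingHom.ker g.appTop.hom := Ideal.span_le.2 (by
      simpa [Set.subset_def, RingHom.mem_ker] using hg)
    exact this ((hc b).1 hb)
  have hkill : ∀ x ∈ gens, (i.left ≫ pullback.fst G₀.hom (gen A K)).appTop (num x) = 0 := by
    intro x hx
    have hx' : i.left.appTop x = 0 := RingHom.mem_ker.1 (hgens ▸ Ideal.subset_span hx)
    rw [Scheme.Hom.comp_appTop]
    show i.left.appTop ((pullback.fst G₀.hom (gen A K)).appTop (num x)) = 0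
    rw [← hnum x, map_mul, hx', mul_zero]
  obtain ⟨φ, hφ⟩ := hfac _ hkill
  have hw : φ ≫ Z.hom = H.hom ≫ (gen A K) := by
    show φ ≫ c₀ ≫ G₀.hom = _
    rw [reassoc_of% hφ, pullback.condition, ← Category.assoc]
    exact congrArg (· ≫ (gen A K)) (Over.w i)
  have sq : IsPullback φ H.hom Z.hom (gen A K) := by
    let ψ : H.left ⟶ pullback Z.hom (gen A K) := pullback.lift φ H.hom hw
    let m : pullback Z.hom (gen A K) ⟶ (Red.bc (gen A K) G₀).left :=
      pullback.map Z.hom (gen A K) G₀.hom (gen A K) c₀ (𝟙 _) (𝟙 _) (by simp [Z]) (by simp)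
    have hm : m ≫ pullback.fst G₀.hom (gen A K) = pullback.fst Z.hom (gen A K) ≫ c₀ := pullback.lift_fst _ _ _
    have hψ : ψ ≫ m = i.left := by
      apply pullback.hom_ext
      · rw [Category.assoc, hm, pullback.lift_fst_assoc, hφ]
      · rw [Category.assoc, show m ≫ pullback.snd G₀.hom (gen A K) = pullback.snd Z.hom (gen A K) ≫ 𝟙 _ from pullback.lift_snd _ _ _,
          Category.comp_id, pullback.lift_snd]
        exact (Over.w i).symm
    haveI : Mono m := by
      constructor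
      intro W u v e
      apply pullback.hom_ext
      · rw [← cancel_mono c₀, Category.assoc, Category.assoc, ← hm, reassoc_of% e]
      · have : m ≫ pullback.snd G₀.hom (gen A K) = pullback.snd Z.hom (gen A K) :=
          (pullback.lift_snd _ _ _).trans (Category.comp_id _)
        rw [← this, reassoc_of% e]
    obtain ⟨ψ', hψ'⟩ := exists_fac i.left m fun b hb => by
      have hle : RingHom.ker i.left.appTop.hom ≤ RingHom.ker m.appTop.hom := by
        rw [← hgens]
        refine Ideal.span_le.2 fun x hx => ?_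
        rw [SetLike.mem_coe, RingHom.mem_ker]
        have hz : m.appTop ((pullback.fst G₀.hom (gen A K)).appTop (num x)) = 0 := by
          show ((pullback.fst G₀.hom (gen A K)).appTop ≫ m.appTop) (num x) = 0
          rw [← Scheme.Hom.comp_appTop, hm, Scheme.Hom.comp_appTop]
          show (pullback.fst Z.hom (gen A K)).appTop (c₀.appTop (num x)) = 0
          rw [(hc _).2 (Ideal.subset_span (Finset.mem_image_of_mem num hx)), map_zero]
        rw [← hnum x, map_mul] at hz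
        exact ((hunit x).map _).mul_right_eq_zero.1 hz
      exact hle hb
    have : IsIso ψ := ⟨ψ', by rw [← cancel_mono i.left, Category.assoc, hψ', hψ, Category.id_comp],
      by rw [← cancel_mono m, Category.assoc, hψ, hψ', Category.id_comp]⟩
    exact IsPullback.of_iso_pullback ⟨hw⟩ (asIso ψ) (pullback.lift_fst _ _ _) (pullback.lift_snd _ _ _)
  have spread : ∀ (T₂ : Over (Spec (CommRingCat.of A))), IsAffine T₂.left → ∀ (g : T₂ ⟶ G₀),
      (∀ (P : Over (Spec (CommRingCat.of K))) (ξ : (Over.map (gen A K)).obj P ⟶ T₂),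
        ∃ k : P ⟶ H, BC.down (gen A K) (k ≫ i) = ξ ≫ g) →
      ∃ a : A, a ≠ 0 ∧ ∀ (T : Over (Spec (CommRingCat.of A))),
        Set.range T.hom.base ⊆ (PrimeSpectrum.basicOpen a : Set (PrimeSpectrum A)) →
        ∀ t : T ⟶ T₂, ∃ z : T ⟶ Z, z ≫ c = t ≫ g := by
    intro T₂ _ g hg
    obtain ⟨k, hk⟩ := hg (Over.mk (pullback.snd T₂.hom (gen A K)))
      (Over.homMk (pullback.fst T₂.hom (gen A K)) pullback.condition)
    have hex : ∀ x : gens, ∃ a : A, a ≠ 0 ∧ cst T₂ a * g.left.appTop (num x.1) = 0 := fun x => by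
      refine (exists_frac (T := T₂) _ _ (IsPullback.of_hasPullback T₂.hom (gen A K))).2 _ ?_
      have e := congrArg (fun z => z.left) hk
      simp only [BC.down_left, Over.comp_left, Over.homMk_left, Category.assoc] at e
      show (g.left.appTop ≫ (pullback.fst T₂.hom (gen A K)).appTop) (num x.1) = 0
      rw [← Scheme.Hom.comp_appTop, ← e, Scheme.Hom.comp_appTop]
      show k.left.appTop ((i.left ≫ pullback.fst G₀.hom (gen A K)).appTop (num x.1)) = 0
      rw [hkill x.1 x.2, map_zero]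
    choose a ha hza using hex
    refine ⟨∏ x, a x, Finset.prod_ne_zero_iff.2 fun x _ => ha x, fun T hT t => ?_⟩
    obtain ⟨z, hz⟩ := hfac (t ≫ g).left fun x hx => by
      obtain ⟨d, hd⟩ := Finset.dvd_prod_of_mem a (Finset.mem_univ ⟨x, hx⟩)
      refine (isUnit_cst hT).mul_right_eq_zero.1 ?_
      rw [hd, cst_mul, Over.comp_left, Scheme.Hom.comp_appTop]
      show cst T (a ⟨x, hx⟩) * cst T d * t.left.appTop (g.left.appTop (num x)) = 0
      rw [mul_right_comm, ← cst_map t, ← map_mul, hza ⟨x, hx⟩, map_zero, zero_mul]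
    refine ⟨Over.homMk z ?_, Over.OverMorphism.ext hz⟩
    show z ≫ c₀ ≫ G₀.hom = T.hom
    rw [reassoc_of% hz, Over.w]
  have hlift : ∀ {P : Over (Spec (CommRingCat.of K))} (ζ : (Over.map (gen A K)).obj P ⟶ Z),
      ∃ h : P ⟶ H, BC.down (gen A K) (h ≫ i) = ζ ≫ c := by
    intro P ζ
    have hζ : ζ.left ≫ Z.hom = P.hom ≫ (gen A K) := Over.w ζ
    refine ⟨Over.homMk (sq.lift ζ.left P.hom hζ) (sq.lift_snd _ _ _), Over.OverMorphism.ext ?_⟩
    rw [BC.down_left, Over.comp_left, Category.assoc, ← hφ]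
    exact sq.lift_fst_assoc _ _ _ _
  haveI : IsAffine Z.left := inferInstanceAs (IsAffine (Spec _))
  obtain ⟨a₁, ha₁, h1⟩ := spread (𝟙_ _) (inferInstanceAs (IsAffine (Spec _))) 1 fun P ξ =>
    ⟨1, by rw [MonObj.one_comp, BC.down_one, MonObj.comp_one]⟩
  obtain ⟨a₂, ha₂, h2⟩ := spread (Z ⊗ Z) (inferInstanceAs (IsAffine (pullback Z.hom Z.hom)))
    ((fst Z Z ≫ c) * (snd Z Z ≫ c)) fun P ξ => by
      obtain ⟨k₁, hk₁⟩ := hlift (ξ ≫ fst Z Z)
      obtain ⟨k₂, hk₂⟩ := hlift (ξ ≫ snd Z Z)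
      exact ⟨k₁ * k₂, by rw [MonObj.mul_comp, BC.down_mul, hk₁, hk₂, MonObj.comp_mul, Category.assoc, Category.assoc]⟩
  obtain ⟨a₃, ha₃, h3⟩ := spread Z inferInstance c⁻¹ fun P ξ => by
    obtain ⟨k, hk⟩ := hlift ξ
    exact ⟨k⁻¹, by rw [GrpObj.inv_comp, BC.down_inv, hk, GrpObj.comp_inv]⟩
  refine ⟨a₁ * a₂ * a₃, Z, c, φ, mul_ne_zero (mul_ne_zero ha₁ ha₂) ha₃, inferInstance, sq, hφ, fun T hT => ?_⟩
  rw [PrimeSpectrum.basicOpen_mul, PrimeSpectrum.basicOpen_mul, TopologicalSpace.Opens.coe_inf,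
    TopologicalSpace.Opens.coe_inf] at hT
  obtain ⟨z, hz⟩ := h1 T (fun _ h => (hT h).1.1) (toUnit T)
  refine ⟨⟨z, by rw [hz, MonObj.comp_one]⟩, fun x y => ⟨?_, ?_⟩⟩
  · obtain ⟨z, hz⟩ := h2 T (fun _ h => (hT h).1.2) (lift x y)
    exact ⟨z, by rw [hz, MonObj.comp_mul, lift_fst_assoc, lift_snd_assoc]⟩
  · obtain ⟨z, hz⟩ := h3 T (fun _ h => (hT h).2) x
    exact ⟨z, by rw [hz, GrpObj.comp_inv]⟩

end Groth.Agent.Lib.SubSpread76
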